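import Cfsg.Agent.H77.HN.Words
import Cfsg.Agent.H97.Ly.Data.Table

/-! The ten basic letters on the 19530 cosets. -/

set_option autoImplicit false

namespace H97.Ly

/-- table of a basic letter -/
def tabSel : ℕ → List (List ℕ)
  | 0 => Data.tab0
  | 1 => Data.tab1
  | 2 => Data.tab2
  | 3 => Data.tab3
  | 4 => Data.tab4
  | 5 => Data.tab5
  | 6 => Data.tab6
  | 7 => Data.tab7
  | 8 => Data.tab8
  | 9 => Data.tab9
  | _ => []

/-- image of a point under a basic letter (the identity for `10 ≤ l`) -/
noncomputable def T10 (l p : ℕ) : ℕ :=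
  bif Nat.blt l 10 then
    H77.HN.frc p fun p =>
      Nat.land (Nat.shiftRight (((tabSel l).getD (p / 2048) []).getD (p / 256 % 8) 0) (15 * (p % 256))) 32767
  else p

end H97.Ly
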