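import Cfsg.Agent.H23.DC.Cert
import Cfsg.Agent.H97.Ly.Table
import Cfsg.Agent.H97.Ly.Data.Base
import Cfsg.Agent.H97.Ly.Data.Tree0
import Cfsg.Agent.H97.Ly.Data.Tree1
import Cfsg.Agent.H97.Ly.Data.Tree2
import Cfsg.Agent.H97.Ly.Data.Tree3
import Cfsg.Agent.H97.Ly.Data.Tree4

/-! The certificate of the double coset enumeration of the Lyons group. -/

set_option autoImplicit false

namespace H97.Ly

open H77.HN (runK)

/-- the basic word of a letter -/
def wordOf (l : ℕ) : List ℕ := Data.wordTab.getD l []

/-- image of a point under a letter -/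
noncomputable def T (l p : ℕ) : ℕ :=
  bif Nat.blt l 10 then T10 l p else runK T10 (wordOf l) p

def treeSel : ℕ → List (List ℕ)
  | 0 => Data.tree0
  | 1 => Data.tree1
  | 2 => Data.tree2
  | 3 => Data.tree3
  | _ => Data.tree4

/-- the packed entry of a point in a tree -/
noncomputable def entry (i c : ℕ) : ℕ :=
  Nat.land (Nat.shiftRight (((treeSel i).getD (c / 2048) []).getD (c / 256 % 8) 0) (36 * (c % 256))) 68719476735

/-- the data -/
noncomputable def cert : H23.DC.Cert where
  T := T
  B := Data.base
  np := 19530
  r := 5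
  ne := Data.numEdges
  sg i := Data.sgTab.getD i []
  hl := [10, 11, 12, 13, 14, 15, 16, 17]
  phi l := l + 8
  orb i c := entry i c % 128
  par i c := entry i c / 128 % 32768
  plet i c := entry i c / 4194304 % 64
  dep i c := entry i c / 268435456
  src k := Data.srcTab.getD k 0
  dst k := Data.dstTab.getD k 0
  nw k := Data.nwTab.getD k []
  mw k := Data.mwTab.getD k []
  root k := Data.rootTab.getD k 0
  rels := Data.relTab

end H97.Ly
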