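import Cfsg.Agent.H97.Ly.LyRel
import Cfsg.Agent.H97.Ly.Cert

/-!
What is needed of the group on the five letters a, b, c, d, e.
-/

set_option autoImplicit false

namespace H97.Ly

open H77.HN (evw Rep)

/-- the image of a, b, c, d in the presented group -/
abbrev abcd : Subgroup Cfsg.Spor.Ly :=
  (Subgroup.closure ({Cfsg.Spor.Ly.a, Cfsg.Spor.Ly.b, Cfsg.Spor.Ly.c, Cfsg.Spor.Ly.d} :
    Set (FreeGroup Cfsg.Spor.Ly.Gen))).map
      (PresentedGroup.mk (Cfsg.Spor.coxRelators Cfsg.Spor.Ly.edges ∪ {r | r ∈ Cfsg.Spor.Ly.extra}))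

/-- a group with the five generators, its action on the 19530 points and its order -/
structure NModel (N : Type) [Group N] where
  gen10 : ℕ → N
  gen_big : ∀ l, 10 ≤ l → gen10 l = 1
  rep : Rep gen10 19530 T10
  base : rep.IsBase Data.base
  fix_le : rep.fixPt ⟨0, by norm_num⟩ ≤
    Subgroup.closure ((fun t => evw gen10 (Data.wordTab.getD (10 + t) [])) '' {t | t < 8})
  card : Nat.card N = 5859000000
  gen_top : Subgroup.closure ({gen10 0, gen10 2, gen10 4, gen10 6} : Set N) = ⊤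
  ι : N →* Cfsg.Spor.Ly
  ι_gen : ∀ l, l < 10 → ι (gen10 l) = letter l

namespace NModel

variable {N : Type} [Group N] (M : NModel N)

theorem finite (M : NModel N) : Finite N :=
  Nat.finite_of_card_ne_zero (by rw [M.card]; norm_num)

theorem ι_letter (l : ℕ) : M.ι (M.gen10 l) = letter l := by
  rcases Nat.lt_or_ge l 10 with h | h
  · exact M.ι_gen l h
  · obtain ⟨m, rfl⟩ : ∃ m, l = m + 10 := ⟨l - 10, by omega⟩
    rw [M.gen_big _ (by omega), map_one]
    simp [letter, basicFree]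

theorem range_eq : M.ι.range = abcd := by
  rw [MonoidHom.range_eq_map, ← M.gen_top, MonoidHom.map_closure]
  show _ = Subgroup.map _ (Subgroup.closure _)
  rw [MonoidHom.map_closure]
  simp only [Set.image_insert_eq, Set.image_singleton, M.ι_letter]
  refine le_antisymm ?_ ?_ <;> rw [Subgroup.closure_le]
  all_goals simp only [Set.insert_subset_iff, Set.singleton_subset_iff, SetLike.mem_coe]
  · refine ⟨?_, ?_, ?_, ?_⟩ <;> refine Subgroup.inv_mem _ (Subgroup.subset_closure ?_) <;>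
      simp [letter, basicFree, pres, Cfsg.Spor.Ly.a, Cfsg.Spor.Ly.b, Cfsg.Spor.Ly.c, Cfsg.Spor.Ly.d]
  · refine ⟨?_, ?_, ?_, ?_⟩ <;> rw [← Subgroup.inv_mem_iff] <;> refine Subgroup.subset_closure ?_ <;>
      simp [letter, basicFree, pres, Cfsg.Spor.Ly.a, Cfsg.Spor.Ly.b, Cfsg.Spor.Ly.c, Cfsg.Spor.Ly.d]

end NModel

end H97.Ly
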