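import Cfsg.Agent.H23.Ly.ToLy
import Cfsg.Agent.H97.Ly.Model
import Cfsg.Agent.H97.Ly.Inst.Agree0
import Cfsg.Agent.H97.Ly.Inst.Agree1

/-!
The presented group on a, b, c, d is a model once its order is known to be small enough.
-/

set_option autoImplicit false
set_option maxRecDepth 100000

namespace H97.Ly.Inst

open H77.HN (evw Rep agree)
open H23.Ly (N0 gen phi)

/-- the basic letters -/
def g10 (l : ℕ) : N0 := if l < 10 then gen l else 1

theorem tables_agree {l : ℕ} (hl : l < 10) {c : ℕ} (hc : c < 19530) :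
    T10 l c = H23.Ly.Data.T l c := by
  interval_cases l
  exacts [agree0 hc, agree1 hc, agree2 hc, agree3 hc, agree4 hc, agree5 hc, agree6 hc, agree7 hc,
    agree8 hc, agree9 hc]

/-- the action through the basic letters -/
noncomputable def rep10 : Rep g10 19530 T10 where
  φ := phi
  spec l p := by
    by_cases hl : l < 10
    · rw [g10, if_pos hl, tables_agree hl p.2]
      exact H23.Ly.rep.spec l p
    · rw [g10, if_neg hl, map_one, T10, show Nat.blt l 10 = false from by
        rw [← Bool.not_eq_true, Nat.blt, Nat.ble_eq]; omega]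
      rfl

/-- the words of the stabiliser letters: each one is a stabiliser word or the inverse of one -/
def hlWord : List (ℕ × List ℕ) :=
  [(1, [1]), (5, [5]), (11, [1, 5, 0]), (13, [3, 5, 2]), (15, [2, 5, 3]),
    (17, [1, 5, 0, 5, 1, 4, 0, 4]), (19, [2, 1, 3]), (21, [2, 2, 1, 3, 3])]

theorem hl_agree : hlWord.all (fun q => agree H23.Ly.Data.T [0, 66, 193, 194, 195] [q.1] q.2) = true := by
  decide +kernel

theorem gen_swap {x : ℕ} (hx : x < 22) : gen (if x % 2 = 0 then x + 1 else x - 1) = (gen x)⁻¹ := by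
  interval_cases x <;> simp [gen, H23.Ly.genOf]

theorem evw_swap : ∀ w : List ℕ, (∀ x ∈ w, x < 22) →
    evw gen (w.reverse.map fun x => if x % 2 = 0 then x + 1 else x - 1) = (evw gen w)⁻¹ := by
  intro w
  induction w with
  | nil => intro _; simp
  | cons l w ih =>
    intro h
    simp only [List.mem_cons, forall_eq_or_imp] at h
    rw [List.reverse_cons, List.map_append, H77.HN.evw_append, ih h.2, List.map_cons, List.map_nil,
      H77.HN.evw_singleton, gen_swap h.1, H77.HN.evw_cons, mul_inv_rev]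

theorem evw_low : ∀ w : List ℕ, (∀ x ∈ w, x < 10) → evw g10 w = evw gen w := by
  intro w
  induction w with
  | nil => intro _; rfl
  | cons l w ih =>
    intro h
    simp only [List.mem_cons, forall_eq_or_imp] at h
    rw [H77.HN.evw_cons, H77.HN.evw_cons, ih h.2, g10, if_pos h.1]

theorem fix_le' (hB : H23.Ly.rep.IsBase [0, 66, 193, 194, 195]) :
    Subgroup.closure (gen '' {l | l ∈ H23.Ly.hl}) ≤
      Subgroup.closure ((fun t => evw g10 (Data.wordTab.getD (10 + t) [])) '' {t | t < 8}) := by
  set K := Subgroup.closure ((fun t => evw g10 (Data.wordTab.getD (10 + t) [])) '' {t | t < 8}) with hK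
  have hw : ∀ q ∈ hlWord, evw gen q.2 = gen q.1 := fun q hq => by
    have h := H23.Ly.rep.evw_eq_of_agree hB (List.all_eq_true.mp hl_agree q hq)
    rw [H77.HN.evw_singleton] at h
    exact h.symm
  have hsmall : ∀ q ∈ hlWord, ∀ x ∈ q.2, x < 10 := by decide
  have key : ∀ q ∈ hlWord, gen q.1 ∈ K := by
    intro q hq
    rw [← hw q hq]
    have hcov : (hlWord.all fun q => (List.range 8).any fun t =>
      decide (Data.wordTab.getD (10 + t) [] = q.2) ||
      decide (Data.wordTab.getD (10 + t) [] = q.2.reverse.map fun x => if x % 2 = 0 then x + 1 else x - 1))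
      = true := by decide +kernel
    obtain ⟨t, ht, h⟩ := List.any_eq_true.mp (List.all_eq_true.mp hcov q hq)
    have hmem : evw g10 (Data.wordTab.getD (10 + t) []) ∈ K :=
      Subgroup.subset_closure ⟨t, List.mem_range.mp ht, rfl⟩
    simp only [Bool.or_eq_true, decide_eq_true_eq] at h
    rcases h with h | h
    · rwa [h, evw_low _ (hsmall q hq)] at hmem
    · have hs : ∀ x ∈ q.2.reverse.map (fun x => if x % 2 = 0 then x + 1 else x - 1), x < 10 := by
        intro x hx
        obtain ⟨y, hy, rfl⟩ := List.mem_map.mp hx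
        have := hsmall q hq y (List.mem_reverse.mp hy)
        split <;> omega
      rw [h, evw_low _ hs, evw_swap _ fun x hx => by have := hsmall q hq x hx; omega] at hmem
      exact inv_mem_iff.mp hmem
  rw [Subgroup.closure_le]
  rintro _ ⟨l, hl, rfl⟩
  have hl' : l ∈ H23.Ly.hl := hl
  have hcov : (H23.Ly.hl.all fun l => hlWord.any fun q =>
      decide (q.1 = l) || decide (q.1 = if l % 2 = 0 then l + 1 else l - 1)) = true := by decide +kernel
  obtain ⟨q, hq, h⟩ := List.any_eq_true.mp (List.all_eq_true.mp hcov l hl')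
  simp only [Bool.or_eq_true, decide_eq_true_eq] at h
  rcases h with h | h
  · exact h ▸ key q hq
  · have hlt : l < 22 := by
      have : H23.Ly.hl.all (fun l => decide (l < 22)) = true := by decide +kernel
      simpa using List.all_eq_true.mp this l hl'
    have := key q hq
    rw [h, gen_swap hlt] at this
    exact inv_mem_iff.mp this

theorem pres_e : H23.Ly.pres Cfsg.Spor.Ly.e = H68.Ly.ee (H23.Ly.pres Cfsg.Spor.Ly.a)
    (H23.Ly.pres Cfsg.Spor.Ly.b) (H23.Ly.pres Cfsg.Spor.Ly.c) (H23.Ly.pres Cfsg.Spor.Ly.d) := by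
  have h6 := H23.Ly.pres_extra (j := 5) (by decide)
  simp only [Cfsg.Spor.Ly.extra, List.getElem_cons_succ, List.getElem_cons_zero, map_mul, map_inv,
    map_pow, mul_inv_eq_one] at h6
  have h29 := H23.Ly.pres_extra (j := 28) (by decide)
  simp only [Cfsg.Spor.Ly.extra, List.getElem_cons_succ, List.getElem_cons_zero, map_mul, map_inv,
    map_pow, mul_inv_eq_one] at h29
  rw [h29, h6]
  first | rfl | simp [H68.Ly.q2, H68.Ly.q3, H68.Ly.q4, H68.Ly.q5, H68.Ly.ee, mul_assoc]

/-- the model -/
noncomputable def model [Finite N0] (hle : Nat.card N0 ≤ 5859000000) : NModel N0 where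
  gen10 := g10
  gen_big l hl := if_neg (by omega)
  rep := rep10
  base := (H23.Ly.exact_facts hle).2.2.1
  fix_le := by
    refine le_trans ?_ (fix_le' (H23.Ly.exact_facts hle).2.2.1)
    rw [(H23.Ly.exact_facts hle).2.1]
    exact le_refl _
  card := (H23.Ly.exact_facts hle).1
  gen_top := by
    rw [eq_top_iff, ← H23.Ly.n0_closure, Subgroup.closure_le]
    intro x hx
    rw [SetLike.mem_coe, ← inv_mem_iff]
    refine Subgroup.subset_closure ?_
    rcases hx with rfl | rfl | rfl | rfl <;> simp [g10, gen, H23.Ly.genOf]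
  ι := H23.Ly.toLy
  ι_gen l hl := by
    rw [g10, if_pos hl]
    show H23.Ly.toLy (H23.Ly.genOf _ _ _ _ l) = _
    rw [H23.Ly.map_genOf, H23.Ly.toLy, H23.Ly.toG_a, H23.Ly.toG_b, H23.Ly.toG_c, H23.Ly.toG_d]
    interval_cases l <;>
      simp [H23.Ly.genOf, letter, basicFree, pres, ← pres_e, H23.Ly.pres, Cfsg.Spor.Ly.a,
        Cfsg.Spor.Ly.b, Cfsg.Spor.Ly.c, Cfsg.Spor.Ly.d, Cfsg.Spor.Ly.e]

end H97.Ly.Inst
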