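import Cfsg.Agent.H23.DC.Bound
import Cfsg.Agent.H97.Ly.Model
import Cfsg.Agent.H97.Ly.Check.Deds
import Cfsg.Agent.H97.Ly.Check.Levels
import Cfsg.Agent.H97.Ly.Check.Tree0
import Cfsg.Agent.H97.Ly.Check.Tree1
import Cfsg.Agent.H97.Ly.Check.Tree2
import Cfsg.Agent.H97.Ly.Check.Tree3
import Cfsg.Agent.H97.Ly.Check.Tree4

/-!
The subgroup on a, b, c, d has at most 8835156 cosets in the presented Lyons group.
-/

set_option autoImplicit false
set_option maxRecDepth 100000

namespace H97.Ly

open H77.HN (evw Rep run runK chainOrd)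
open H23.DC

theorem relTab_small : (Data.relTab.all fun w => w.all fun c => decide (c < 12)) = true := by
  decide +kernel

theorem word_low : ((List.range 10).all fun l => decide (wordOf l = [l])) = true := by decide +kernel

theorem phi_words : ((List.range 8).all fun t => decide (cert.phi (10 + t) = 18 + t)) = true := by
  decide +kernel

namespace NModel

variable {N : Type} [Group N] (M : NModel N)

/-- all letters -/
noncomputable def gen (l : ℕ) : N := evw M.gen10 (wordOf l)

theorem gen_low {l : ℕ} (hl : l < 10) : M.gen l = M.gen10 l := by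
  have h := List.all_eq_true.mp word_low l (List.mem_range.mpr hl)
  simp only [decide_eq_true_eq] at h
  rw [gen, h, H77.HN.evw_singleton]

theorem rep_spec (l : ℕ) (p : Fin 19530) : (M.rep.φ (M.gen l) p : ℕ) = T l p := by
  unfold T
  by_cases hl : Nat.blt l 10 = true
  · rw [hl, cond_true, M.gen_low (by simpa [Nat.blt] using hl), M.rep.spec]
  · rw [Bool.not_eq_true] at hl
    rw [hl, cond_false, H77.HN.runK_eq, gen, M.rep.evw_apply]

/-- the action through all letters -/
noncomputable def repAll : Rep M.gen cert.np cert.T where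
  φ := M.rep.φ
  spec := M.rep_spec

theorem base_ok : M.repAll.IsBase cert.B := M.base

theorem fix_ok : M.repAll.fixPt ⟨0, by decide⟩ ≤
    Subgroup.closure (M.gen '' {l | l ∈ cert.hl}) := by
  refine le_trans M.fix_le ((Subgroup.closure_le _).mpr ?_)
  rintro _ ⟨t, ht, rfl⟩
  simp only [Set.mem_setOf_eq] at ht
  refine Subgroup.subset_closure ⟨10 + t, ?_, rfl⟩
  show 10 + t ∈ [10, 11, 12, 13, 14, 15, 16, 17]
  interval_cases t <;> simp

theorem tree_all : ∀ i < cert.r, ∀ c < cert.np, cert.treeEntry i c = true := by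
  intro i hi c hc
  have hi' : i < 5 := hi
  have hc' : c < 0 + 19530 := by simpa using (show c < 19530 from hc)
  interval_cases i
  · exact H77.HN.allBelow_spec tree0_ok c (Nat.zero_le _) hc'
  · exact H77.HN.allBelow_spec tree1_ok c (Nat.zero_le _) hc'
  · exact H77.HN.allBelow_spec tree2_ok c (Nat.zero_le _) hc'
  · exact H77.HN.allBelow_spec tree3_ok c (Nat.zero_le _) hc'
  · exact H77.HN.allBelow_spec tree4_ok c (Nat.zero_le _) hc'

/-- the certificate over the model -/
noncomputable def setting : Setting N where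
  D := cert
  gen := M.gen
  R := M.repAll
  hB := M.base_ok
  hnp := by decide
  hH := M.fix_ok
  hroots := roots_ok
  htree := tree_all

theorem ι_gen_all (l : ℕ) : M.ι (M.gen l) = evw letter (wordOf l) := by
  rw [gen, ← H77.HN.evw_map]
  exact congrArg (fun f => evw f _) (funext fun l => M.ι_letter l)

theorem twist_ok' : ∀ l ∈ cert.hl, cv 0 * M.ι (M.gen l) = M.ι (M.gen (cert.phi l)) * cv 0 := by
  intro l hl
  have hl' : l ∈ [10, 11, 12, 13, 14, 15, 16, 17] := hl
  obtain ⟨t, ht, rfl⟩ : ∃ t < 8, l = 10 + t := ⟨l - 10, by simp at hl'; omega, by simp at hl'; omega⟩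
  have h := List.all_eq_true.mp phi_words t (List.mem_range.mpr ht)
  simp only [decide_eq_true_eq] at h
  rw [h, M.ι_gen_all, M.ι_gen_all]
  exact twist_word ht

theorem gen_top' : Subgroup.closure (insert (cv 0) (Set.range M.ι)) = ⊤ := by
  rw [eq_top_iff]
  intro x hx
  clear hx
  obtain ⟨y, rfl⟩ := PresentedGroup.mk_surjective _ x
  show pres y ∈ _
  rw [← pres_subst y]
  have hw : ∀ w : List ℕ, pres (wordFree w) ∈ Subgroup.closure (insert (cv 0) (Set.range M.ι)) := by
    intro w
    induction w with
    | nil => simp [wordFree]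
    | cons c w ih =>
      rw [wordFree, map_mul]
      refine mul_mem (inv_mem_iff.mp ?_) ih
      show cv c ∈ _
      match c with
      | 0 => exact Subgroup.subset_closure (Set.mem_insert _ _)
      | 1 =>
        have : cv 1 = (cv 0)⁻¹ := by simp [cv, codeFree]
        rw [this]
        exact inv_mem (Subgroup.subset_closure (Set.mem_insert _ _))
      | n + 2 =>
        rw [cv_add_two, ← M.ι_letter]
        exact Subgroup.subset_closure (Set.mem_insert_of_mem _ ⟨_, rfl⟩)
  induction y using FreeGroup.induction_on with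
  | C1 => simp
  | of g =>
    simp only [subst, FreeGroup.lift_apply_of]
    exact hw _
  | inv_of g hg => rw [map_inv, map_inv]; exact inv_mem hg
  | mul a b ha hb => rw [map_mul, map_mul]; exact mul_mem ha hb

theorem rels_ok' : ∀ w ∈ cert.rels,
    evw (fun c => if c = 0 then cv 0 else if c = 1 then (cv 0)⁻¹ else M.ι (M.gen (c - 2))) w = 1 := by
  intro w hw
  have hsmall := List.all_eq_true.mp relTab_small w hw
  simp only [List.all_eq_true, decide_eq_true_eq] at hsmall
  have key : ∀ u : List ℕ, (∀ c ∈ u, c < 12) →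
      evw (fun c => if c = 0 then cv 0 else if c = 1 then (cv 0)⁻¹ else M.ι (M.gen (c - 2))) u =
        evw cv u := by
    intro u
    induction u with
    | nil => intro _; rfl
    | cons c u ih =>
      intro hu
      simp only [List.mem_cons, forall_eq_or_imp] at hu
      rw [H77.HN.evw_cons, H77.HN.evw_cons, ih hu.2]
      congr 1
      match c, hu.1 with
      | 0, _ => simp
      | 1, _ => simp [cv, codeFree]
      | n + 2, hn =>
        rw [if_neg (by omega), if_neg (by omega), Nat.add_sub_cancel, M.gen_low (by omega),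
          M.ι_letter, cv_add_two]
  rw [key w hsmall]
  exact rel_one w hw

/-- the presented group over the model -/
noncomputable def amalgam : Amalgam M.setting Cfsg.Spor.Ly where
  ι := M.ι
  gt := cv 0
  twist := M.twist_ok'
  gen_top := M.gen_top'
  rels := M.rels_ok'

theorem stab_index {i ord : ℕ} {ls : List (ℕ × List ℕ)}
    (h : H77.HN.chainCheck cert.T (cert.sg i) [] ls = true ∧ chainOrd ls = ord ∧
      ls.all (fun p => Nat.blt p.1 19530) = true) :
    (M.setting.stab i).index * ord ≤ 5859000000 := by
  haveI := M.finite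
  obtain ⟨h1, rfl, h3⟩ := h
  have hb : ∀ p ∈ ls, p.1 < cert.np := fun p hp => by
    have := List.all_eq_true.mp h3 p hp
    show p.1 < 19530
    simpa [Nat.blt] using this
  have h6 := H77.HN.chain_le M.repAll hb h1
  have h7 : chainOrd ls ≤ Nat.card (M.setting.stab i) := by
    refine le_trans (le_trans ?_ h6) (Subgroup.card_le_of_le fun x hx => (H77.HN.mem_fixList.mp hx).1)
    exact Nat.le_mul_of_pos_right _ Nat.card_pos
  calc (M.setting.stab i).index * chainOrd ls
      ≤ (M.setting.stab i).index * Nat.card (M.setting.stab i) := Nat.mul_le_mul_left _ h7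
    _ = 5859000000 := by rw [Subgroup.index_mul_card, M.card]

theorem stab_zero : M.setting.stab 0 = ⊤ := by
  rw [eq_top_iff, ← M.gen_top, Subgroup.closure_le]
  intro x hx
  simp only [Set.mem_insert_iff, Set.mem_singleton_iff] at hx
  refine Subgroup.subset_closure ?_
  rcases hx with rfl | rfl | rfl | rfl
  · exact ⟨0, show _ ∈ ([0, 2, 4, 6] : List ℕ) by simp, M.gen_low (by norm_num)⟩
  · exact ⟨2, show _ ∈ ([0, 2, 4, 6] : List ℕ) by simp, M.gen_low (by norm_num)⟩
  · exact ⟨4, show _ ∈ ([0, 2, 4, 6] : List ℕ) by simp, M.gen_low (by norm_num)⟩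
  · exact ⟨6, show _ ∈ ([0, 2, 4, 6] : List ℕ) by simp, M.gen_low (by norm_num)⟩

/-- the deductions hold -/
theorem valid : M.amalgam.Valid Data.treeList Data.known8 := by
  have hK0 : M.amalgam.Valid Data.treeList Data.known0 := by
    rw [start_ok]
    exact M.amalgam.init_valid _ _ tree_shape
  exact M.amalgam.dedAll_sound _ (M.amalgam.dedAll_sound _ (M.amalgam.dedAll_sound _
    (M.amalgam.dedAll_sound _ (M.amalgam.dedAll_sound _ (M.amalgam.dedAll_sound _
    (M.amalgam.dedAll_sound _ (M.amalgam.dedAll_sound _ hK0 deds0_ok) deds1_ok) deds2_ok) deds3_ok)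
    deds4_ok) deds5_ok) deds6_ok) deds7_ok

/-- the cosets found by the enumeration -/
noncomputable def cover (x : Σ i : Fin cert.r, N ⧸ M.setting.stab i) : M.amalgam.Cos :=
  M.ι x.2.out • M.amalgam.q Data.treeList x.1

theorem cover_mk {i : Fin cert.r} (n : N) :
    M.cover ⟨i, QuotientGroup.mk n⟩ = M.ι n • M.amalgam.q Data.treeList i := by
  obtain ⟨u, hu⟩ := QuotientGroup.mk_out_eq_mul (M.setting.stab i) n
  show M.ι (QuotientGroup.mk n : N ⧸ M.setting.stab i).out • M.amalgam.q Data.treeList i = _
  rw [hu, map_mul, mul_smul]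
  exact congrArg _ (M.amalgam.stab_fix M.valid done_ok i.2 u.2)

theorem cover_surjective : Function.Surjective M.cover := by
  haveI := M.finite
  intro y
  obtain ⟨i, hi, n, rfl⟩ := M.amalgam.reached_all M.valid done_ok (show 0 < 5 by norm_num) y
  exact ⟨⟨⟨i, hi⟩, QuotientGroup.mk n⟩, M.cover_mk (i := ⟨i, hi⟩) n⟩

/-- the stabilisers have the indices 1, 19530, 968750, 2034375, 5812500 at most -/
theorem sum_index_le : ∑ i ∈ Finset.range 5, (M.setting.stab i).index ≤ 8835156 := by
  simp only [Finset.sum_range_succ, Finset.sum_range_zero, M.stab_zero, Subgroup.index_top]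
  have h1 := M.stab_index levels1_ok
  have h2 := M.stab_index levels2_ok
  have h3 := M.stab_index levels3_ok
  have h4 := M.stab_index levels4_ok
  omega

include M in
/-- the index is finite and at most 8835156 -/
theorem abcd_index_le : abcd.FiniteIndex ∧ abcd.index ≤ 8835156 := by
  haveI := M.finite
  obtain ⟨hfin, hle⟩ := M.amalgam.index_le M.valid done_ok (show 0 < 5 by norm_num)
  have hr : M.amalgam.ι.range = abcd := M.range_eq
  rw [hr] at hle
  haveI : Finite M.amalgam.Cos := hfin
  have hfi : abcd.FiniteIndex := by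
    rw [← hr]
    exact Subgroup.finiteIndex_of_finite_quotient
  exact ⟨hfi, hle.trans M.sum_index_le⟩

end NModel

end H97.Ly
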