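import Cfsg.Agent.H77.HN.Words

/-!
Paths whose words are rearrangements of the defining relators.

Codes: 0 and 1 are a further generator and its inverse, `l + 2` is the basic letter `l`; the letters
`2j` and `2j + 1` are inverse to each other.
-/

set_option autoImplicit false

namespace H97.Ly

open H77.HN (evw)

/-- replace the code 1 by a word -/
def expand (r : List ℕ) (w : List ℕ) : List ℕ := w.flatMap fun c => if c = 1 then r else [c]

/-- two codes cancel -/
def cancels (x y : ℕ) : Bool :=
  decide (2 ≤ x ∧ 2 ≤ y ∧ ((x % 2 = 0 ∧ y = x + 1) ∨ (x % 2 = 1 ∧ y + 1 = x)))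

/-- push one code on a reduced word -/
def push (x : ℕ) : List ℕ → List ℕ
  | [] => [x]
  | y :: ys => bif cancels x y then ys else x :: y :: ys

/-- free reduction in the letters -/
def reduce : List ℕ → List ℕ
  | [] => []
  | x :: xs => push x (reduce xs)

/-- a path word comes from a rotation of a relator -/
def fromRel (u o : List ℕ) (k : ℕ) : Bool :=
  let e := expand [0, 3, 3] o
  decide (reduce (expand [3, 3, 0] u) = reduce (e.drop k ++ e.take k))

variable {G : Type*} [Group G] {v : ℕ → G}

theorem evw_expand {r : List ℕ} (hr : evw v r = v 1) : ∀ w : List ℕ, evw v (expand r w) = evw v w := by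
  intro w
  induction w with
  | nil => rfl
  | cons c w ih =>
    simp only [expand] at ih
    simp only [expand, List.flatMap_cons, H77.HN.evw_append, H77.HN.evw_cons, ih]
    congr 1
    split
    · next h => rw [hr, h]
    · simp

theorem evw_push (hv : ∀ x y, cancels x y = true → v y * v x = 1) (x : ℕ) :
    ∀ w : List ℕ, evw v (push x w) = evw v w * v x := by
  intro w
  cases w with
  | nil => simp [push]
  | cons y ys =>
    rw [push]
    cases h : cancels x y with
    | true => rw [cond_true, H77.HN.evw_cons, mul_assoc, hv x y h, mul_one]
    | false => rw [cond_false]; rfl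

theorem evw_reduce (hv : ∀ x y, cancels x y = true → v y * v x = 1) :
    ∀ w : List ℕ, evw v (reduce w) = evw v w := by
  intro w
  induction w with
  | nil => rfl
  | cons x xs ih => rw [reduce, evw_push hv, ih, H77.HN.evw_cons]

/-- a path word that comes from a relator is trivial -/
theorem fromRel_sound (hv : ∀ x y, cancels x y = true → v y * v x = 1)
    (hA : evw v [3, 3, 0] = v 1) (hB : evw v [0, 3, 3] = v 1) {u o : List ℕ} {k : ℕ}
    (ho : evw v o = 1) (h : fromRel u o k = true) : evw v u = 1 := by
  simp only [fromRel, decide_eq_true_eq] at h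
  have h' := congrArg (evw v) h
  rw [evw_reduce hv, evw_reduce hv, evw_expand hA] at h'
  rw [h']
  have he : evw v (expand [0, 3, 3] o) = 1 := by rw [evw_expand hB, ho]
  generalize expand [0, 3, 3] o = e at he ⊢
  rw [← List.take_append_drop k e, H77.HN.evw_append] at he
  rw [H77.HN.evw_append, eq_inv_of_mul_eq_one_left he]
  exact mul_inv_cancel _

end H97.Ly
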