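import Cfsg.Prelude.Def_Spor_Ly
import Cfsg.Agent.H97.Ly.Norm
import Cfsg.Agent.H97.Ly.Data.Rels
import Cfsg.Agent.H97.Ly.Data.Sub
import Cfsg.Agent.H97.Ly.Data.Base

/-!
The coded letters in the presented Lyons group; the relator paths are trivial there.
-/

set_option autoImplicit false
set_option maxRecDepth 100000

namespace H97.Ly

open Cfsg.Spor.Ly (Gen)
open H77.HN (evw)

abbrev pres : FreeGroup Gen →* Cfsg.Spor.Ly :=
  PresentedGroup.mk (Cfsg.Spor.coxRelators Cfsg.Spor.Ly.edges ∪ {r | r ∈ Cfsg.Spor.Ly.extra})

theorem pres_extra {r : FreeGroup Gen} (h : r ∈ Cfsg.Spor.Ly.extra) : pres r = 1 :=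
  PresentedGroup.one_of_mem (Or.inr h)

/-- the free element of a basic letter -/
def basicFree : ℕ → FreeGroup Gen
  | 0 => FreeGroup.of .a
  | 1 => (FreeGroup.of .a)⁻¹
  | 2 => FreeGroup.of .b
  | 3 => (FreeGroup.of .b)⁻¹
  | 4 => FreeGroup.of .c
  | 5 => (FreeGroup.of .c)⁻¹
  | 6 => FreeGroup.of .d
  | 7 => (FreeGroup.of .d)⁻¹
  | 8 => FreeGroup.of .e
  | 9 => (FreeGroup.of .e)⁻¹
  | _ => 1

/-- the free element of a code -/
def codeFree : ℕ → FreeGroup Gen
  | 0 => FreeGroup.of .z
  | 1 => (FreeGroup.of .z)⁻¹
  | n + 2 => basicFree n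

/-- the free element of a coded word, read as a product from the left -/
def wordFree : List ℕ → FreeGroup Gen
  | [] => 1
  | c :: w => codeFree c * wordFree w

/-- the value of a basic letter: the inverse of the generator -/
noncomputable def letter (l : ℕ) : Cfsg.Spor.Ly := (pres (basicFree l))⁻¹

/-- the value of a code -/
noncomputable def cv (c : ℕ) : Cfsg.Spor.Ly := (pres (codeFree c))⁻¹

theorem cv_add_two (l : ℕ) : cv (l + 2) = letter l := rfl

theorem evw_cv (w : List ℕ) : evw cv w = (pres (wordFree w))⁻¹ := by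
  induction w with
  | nil => simp [wordFree]
  | cons c w ih => rw [H77.HN.evw_cons, ih, wordFree, map_mul, mul_inv_rev, cv]

/-- substitute the auxiliary generators -/
def subst : FreeGroup Gen →* FreeGroup Gen := FreeGroup.lift fun g => wordFree (Data.subCode g)

/-- the auxiliary generators with the positions of their relations, in order of definition -/
def auxList : List (Gen × ℕ) :=
  [(.c1, 5), (.c2, 6), (.c3, 7), (.c4, 8), (.c5, 9), (.a1, 44), (.a2, 45), (.a3, 46), (.a4, 47),
    (.u, 48), (.x23, 49), (.x24, 50), (.x25, 51), (.x29, 52), (.x47, 53), (.x96, 54), (.x129, 55),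
    (.x162, 56), (.x163, 57), (.x164, 58), (.x165, 59), (.x166, 60), (.x167, 61), (.x168, 62),
    (.x169, 63), (.x364, 64), (.x365, 65), (.x366, 66), (.x367, 67), (.x368, 68), (.x369, 69),
    (.x370, 70), (.x371, 71)]

/-- each relation defines its generator from those already treated -/
def auxOK : List Gen → List (Gen × ℕ) → Bool
  | _, [] => true
  | known, (g, n) :: rest =>
    decide (n < Cfsg.Spor.Ly.extra.length) &&
      decide (subst (Cfsg.Spor.Ly.extra.getD n 1) = 1) &&
      (((FreeGroup.of g)⁻¹ * Cfsg.Spor.Ly.extra.getD n 1).toWord.all fun p => known.contains p.1) &&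
      auxOK (g :: known) rest

theorem aux_ok : auxOK [.a, .b, .c, .d, .z, .e] auxList = true := by decide +kernel

theorem aux_complete : ∀ g : Gen, g ∈ [Gen.a, .b, .c, .d, .z, .e] ++ auxList.map Prod.fst := by
  intro g; cases g <;> decide

theorem agree_of_known {known : List Gen}
    (hk : ∀ g ∈ known, pres (subst (FreeGroup.of g)) = pres (FreeGroup.of g))
    (x : FreeGroup Gen) (hx : x.toWord.all (fun p => known.contains p.1) = true) :
    pres (subst x) = pres x := by
  rw [← FreeGroup.mk_toWord (x := x)]
  simp only [List.all_eq_true, List.contains_iff_mem] at hx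
  generalize x.toWord = L at hx
  induction L with
  | nil => rw [← FreeGroup.one_eq_mk, map_one]
  | cons p L ih =>
    have e : FreeGroup.mk (p :: L) = FreeGroup.mk [p] * FreeGroup.mk L := rfl
    simp only [List.mem_cons, forall_eq_or_imp] at hx
    rw [e, map_mul, map_mul, map_mul, ih hx.2]
    congr 1
    obtain ⟨g, b⟩ := p
    cases b with
    | true => exact hk g hx.1
    | false =>
      have e2 : FreeGroup.mk [(g, false)] = (FreeGroup.of g)⁻¹ := rfl
      rw [e2, map_inv, map_inv, map_inv, hk g hx.1]

theorem aux_sound : ∀ (known : List Gen) (rest : List (Gen × ℕ)), auxOK known rest = true →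
    (∀ g ∈ known, pres (subst (FreeGroup.of g)) = pres (FreeGroup.of g)) →
    ∀ g ∈ known ++ rest.map Prod.fst, pres (subst (FreeGroup.of g)) = pres (FreeGroup.of g) := by
  intro known rest
  induction rest generalizing known with
  | nil => intro _ hk g hg; exact hk g (by simpa using hg)
  | cons p rest ih =>
    obtain ⟨x, n⟩ := p
    intro h hk g hg
    simp only [auxOK, Bool.and_eq_true, decide_eq_true_eq] at h
    obtain ⟨⟨⟨hn, hs⟩, hw⟩, hrest⟩ := h
    have hx : pres (subst (FreeGroup.of x)) = pres (FreeGroup.of x) := by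
      have hr : pres (Cfsg.Spor.Ly.extra.getD n 1) = 1 := by
        rw [List.getD_eq_getElem _ _ hn]
        exact pres_extra (List.getElem_mem hn)
      have h2 := agree_of_known hk _ hw
      rw [map_mul, map_mul, map_inv, map_inv, hs, map_one, map_mul, map_inv, hr, mul_one, mul_one,
        inv_inj] at h2
      exact h2
    refine ih (x :: known) hrest (fun g' hg' => ?_) g ?_
    · rcases List.mem_cons.mp hg' with rfl | hg'
      exacts [hx, hk _ hg']
    · simp only [List.map_cons, List.mem_append, List.mem_cons] at hg ⊢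
      tauto

theorem pres_subst (x : FreeGroup Gen) : pres (subst x) = pres x := by
  have h : (pres.comp subst) = pres := by
    refine FreeGroup.ext_hom _ _ fun g => ?_
    refine aux_sound _ _ aux_ok (fun g' hg' => ?_) g (aux_complete g)
    fin_cases hg' <;> simp [subst, Data.subCode, wordFree, codeFree, basicFree]
  exact congrArg (fun f : FreeGroup Gen →* Cfsg.Spor.Ly => f x) h

/-- the numbers of the relations behind the coded relators -/
def origNums : List ℕ := [80, 81, 82, 83, 84, 85, 77, 78, 79, 72, 73, 74, 75, 76]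

theorem orig_ok : (List.range 14).all (fun j =>
    decide (origNums.getD j 0 < Cfsg.Spor.Ly.extra.length) &&
    decide (subst (Cfsg.Spor.Ly.extra.getD (origNums.getD j 0) 1) = wordFree (Data.origTab.getD j []))) = true := by
  decide +kernel

theorem orig_one {j : ℕ} (hj : j < 14) : evw cv (Data.origTab.getD j []) = 1 := by
  have h := List.all_eq_true.mp orig_ok j (List.mem_range.mpr hj)
  simp only [Bool.and_eq_true, decide_eq_true_eq] at h
  obtain ⟨hn, he⟩ := h
  rw [evw_cv, ← he, pres_subst, List.getD_eq_getElem _ _ hn, pres_extra (List.getElem_mem hn), inv_one]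

theorem cv_cancels (x y : ℕ) (h : cancels x y = true) : cv y * cv x = 1 := by
  simp only [cancels, decide_eq_true_eq] at h
  obtain ⟨hx, hy, h⟩ := h
  by_cases hbig : 12 ≤ x
  · have hy' : 12 ≤ y := by omega
    obtain ⟨a, rfl⟩ : ∃ a, x = a + 12 := ⟨x - 12, by omega⟩
    obtain ⟨b, rfl⟩ : ∃ b, y = b + 12 := ⟨y - 12, by omega⟩
    simp [cv, codeFree, basicFree]
  · rcases h with ⟨h1, rfl⟩ | ⟨h1, h2⟩
    · interval_cases x <;> first | omega | simp [cv, codeFree, basicFree]
    · obtain rfl : y = x - 1 := by omega
      interval_cases x <;> first | omega | simp [cv, codeFree, basicFree]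

theorem cv_sq : cv 3 * cv 3 = cv 1 * cv 1 := by
  have h := orig_one (show 0 < 14 by norm_num)
  have e : Data.origTab.getD 0 [] = [0, 0, 3, 3] := rfl
  rw [e] at h
  have h0 : cv 0 = (cv 1)⁻¹ := by simp [cv, codeFree]
  simp only [H77.HN.evw_cons, H77.HN.evw_nil, one_mul, h0] at h
  have h2 := congrArg (fun y => y * cv 1 * cv 1) h
  simpa [mul_assoc] using h2

theorem cv_one_left : evw cv [0, 3, 3] = cv 1 := by
  have h0 : cv 0 = (cv 1)⁻¹ := by simp [cv, codeFree]
  simp only [H77.HN.evw_cons, H77.HN.evw_nil, one_mul, h0, cv_sq, mul_inv_cancel_right]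

theorem cv_one_right : evw cv [3, 3, 0] = cv 1 := by
  have h0 : cv 0 = (cv 1)⁻¹ := by simp [cv, codeFree]
  simp only [H77.HN.evw_cons, H77.HN.evw_nil, one_mul, h0, mul_assoc, cv_sq, inv_mul_cancel_left]

theorem src_ok : ((List.range Data.relTab.length).all fun n =>
    decide ((Data.relSrc.getD n (0, 0)).1 < 6) &&
    fromRel (Data.relTab.getD n []) (Data.origTab.getD (Data.relSrc.getD n (0, 0)).1 [])
      (Data.relSrc.getD n (0, 0)).2) = true := by decide +kernel

/-- every relator path is trivial -/
theorem rel_one : ∀ w ∈ Data.relTab, evw cv w = 1 := by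
  intro w hw
  obtain ⟨n, hn, rfl⟩ := List.getElem_of_mem hw
  have h := List.all_eq_true.mp src_ok n (List.mem_range.mpr hn)
  simp only [Bool.and_eq_true, decide_eq_true_eq] at h
  rw [List.getD_eq_getElem _ _ hn] at h
  exact fromRel_sound cv_cancels cv_one_right cv_one_left (orig_one (by omega)) h.2

/-- the coded twist relator of a stabiliser letter -/
def twistWord (t : ℕ) : List ℕ :=
  1 :: (Data.wordTab.getD (10 + t) []).map (· + 2) ++
    0 :: ((Data.wordTab.getD (18 + t) []).reverse.map fun x => (if x % 2 = 0 then x + 1 else x - 1) + 2)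

theorem twist_ok : ((List.range 8).all fun t =>
    decide (reduce (twistWord t) = reduce (Data.origTab.getD (6 + t) []))) = true := by decide +kernel

theorem evw_shift (w : List ℕ) : evw cv (w.map (· + 2)) = evw letter w := by
  induction w with
  | nil => rfl
  | cons l w ih => simp [ih, cv_add_two]

theorem letter_swap (x : ℕ) : letter (if x % 2 = 0 then x + 1 else x - 1) = (letter x)⁻¹ := by
  rcases Nat.lt_or_ge x 10 with h | h
  · interval_cases x <;> simp [letter, basicFree]
  · have hb : ∀ n, 10 ≤ n → basicFree n = 1 := fun n hn => by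
      obtain ⟨m, rfl⟩ : ∃ m, n = m + 10 := ⟨n - 10, by omega⟩
      rfl
    by_cases h11 : x % 2 = 0
    · simp [letter, h11, hb x h, hb (x + 1) (by omega)]
    · simp [letter, h11, hb x h, hb (x - 1) (by omega)]

/-- the further generator carries the stabiliser letters to their images -/
theorem twist_word {t : ℕ} (ht : t < 8) :
    cv 0 * evw letter (Data.wordTab.getD (10 + t) []) =
      evw letter (Data.wordTab.getD (18 + t) []) * cv 0 := by
  have h := List.all_eq_true.mp twist_ok t (List.mem_range.mpr ht)
  simp only [decide_eq_true_eq] at h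
  have h' := congrArg (evw cv) h
  rw [evw_reduce cv_cancels, evw_reduce cv_cancels, orig_one (show 6 + t < 14 by omega)] at h'
  have hinv : ∀ w : List ℕ, evw cv (w.reverse.map fun x => (if x % 2 = 0 then x + 1 else x - 1) + 2) =
      (evw letter w)⁻¹ := by
    intro w
    induction w with
    | nil => simp
    | cons l w ih =>
      simp only [List.reverse_cons, List.map_append, List.map_cons, List.map_nil, H77.HN.evw_append,
        H77.HN.evw_cons, H77.HN.evw_nil, one_mul, ih, cv_add_two, letter_swap, mul_inv_rev]
  have hcv : cv 1 = (cv 0)⁻¹ := by simp [cv, codeFree]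
  simp only [twistWord, List.cons_append, H77.HN.evw_cons, H77.HN.evw_append, evw_shift, hinv, hcv] at h'
  generalize evw letter (Data.wordTab.getD (10 + t) []) = p at h' ⊢
  generalize evw letter (Data.wordTab.getD (18 + t) []) = q at h' ⊢
  have h2 := congrArg (fun y => q * (y * cv 0)) h'
  simpa [mul_assoc] using h2

end H97.Ly
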