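import Cfsg.Agent.H97.Ly.Upper
import Cfsg.Agent.H97.Ly.Check.Moved

/-!
Consequences of the exact order of the presented group: exact index, faithful model, exact
stabilisers, trivial centre.
-/

set_option autoImplicit false
set_option maxRecDepth 100000

namespace H97.Ly

open H77.HN (evw)

theorem eq_of_mul_bounds {a b A B : ℕ} (ha : a ≤ A) (hb : b ≤ B) (hA : 0 < A) (hB : 0 < B)
    (h : a * b = A * B) : a = A ∧ b = B := by
  have h1 : a * b ≤ a * B := Nat.mul_le_mul_left _ hb
  have h2 : a * B ≤ A * B := Nat.mul_le_mul_right _ ha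
  have hA' : a = A := Nat.eq_of_mul_eq_mul_right hB (by omega)
  exact ⟨hA', Nat.eq_of_mul_eq_mul_left hA (by rw [← h, hA'])⟩

/-- the indices of the stabilisers -/
def stabIdx : List ℕ := [1, 19530, 2034375, 5812500, 968750]

namespace NModel

variable {N : Type} [Group N] (M : NModel N) (hly : Nat.card Cfsg.Spor.Ly = 51765179004000000)

include M hly in
theorem index_card : abcd.index = 8835156 ∧ Nat.card abcd = 5859000000 := by
  haveI := M.finite
  obtain ⟨-, hle⟩ := M.abcd_index_le
  have hr : M.ι.range = abcd := M.range_eq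
  have hc : Nat.card abcd ≤ 5859000000 := by
    rw [← hr, ← M.card]
    exact Nat.card_le_card_of_surjective M.ι.rangeRestrict M.ι.rangeRestrict_surjective
  refine eq_of_mul_bounds hle hc (by norm_num) (by norm_num) ?_
  rw [abcd.index_mul_card, hly]

include M hly in
theorem ι_injective : Function.Injective M.ι := by
  haveI := M.finite
  have hr : M.ι.range = abcd := M.range_eq
  have h : Nat.card N = Nat.card M.ι.range := by rw [hr, (M.index_card hly).2, M.card]
  have hb := (Function.Surjective.bijective_of_nat_card_le M.ι.rangeRestrict_surjective h.le).injective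
  exact fun x y e => hb (Subtype.ext e)

include M hly in
theorem card_cos : Nat.card M.amalgam.Cos = 8835156 := by
  have hr : M.ι.range = abcd := M.range_eq
  show Nat.card (Cfsg.Spor.Ly ⧸ M.ι.range) = 8835156
  rw [hr]; exact (M.index_card hly).1

theorem card_sigma : Nat.card (Σ i : Fin cert.r, N ⧸ M.setting.stab i) =
    ∑ i ∈ Finset.range 5, (M.setting.stab i).index := by
  haveI := M.finite
  rw [Nat.card_sigma, Finset.sum_range]
  rfl

include M hly in
theorem sum_index_eq : ∑ i ∈ Finset.range 5, (M.setting.stab i).index = 8835156 := by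
  haveI := M.finite
  refine le_antisymm M.sum_index_le ?_
  rw [← M.card_sigma, ← M.card_cos hly]
  exact Nat.card_le_card_of_surjective _ M.cover_surjective

include M hly in
theorem cover_bijective : Function.Bijective M.cover := by
  haveI := M.finite
  refine Function.Surjective.bijective_of_nat_card_le M.cover_surjective ?_
  rw [M.card_sigma, M.sum_index_eq hly, M.card_cos hly]

include M hly in
theorem stab_index_eq {i : ℕ} (hi : i < 5) : (M.setting.stab i).index = stabIdx.getD i 0 := by
  have h0 : (M.setting.stab 0).index = 1 := by rw [M.stab_zero, Subgroup.index_top]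
  have h := M.sum_index_eq hly
  simp only [Finset.sum_range_succ, Finset.sum_range_zero, h0] at h
  have h1 := M.stab_index levels1_ok
  have h2 := M.stab_index levels2_ok
  have h3 := M.stab_index levels3_ok
  have h4 := M.stab_index levels4_ok
  interval_cases i <;> simp only [stabIdx, List.getD_cons_zero, List.getD_cons_succ] <;> omega

include M hly in
/-- the identity coset is the only one fixed by the whole image of N -/
theorem mem_range_of_fixed {k : Cfsg.Spor.Ly}
    (hk : ∀ n : N, (k⁻¹ * M.ι n * k) ∈ M.ι.range) : k ∈ M.ι.range := by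
  obtain ⟨⟨i, c⟩, hc⟩ := M.cover_surjective (QuotientGroup.mk k)
  obtain ⟨n, rfl⟩ := QuotientGroup.mk_surjective c
  rw [M.cover_mk] at hc
  have hfix : ∀ m : N, QuotientGroup.mk (m * n) = (QuotientGroup.mk n : N ⧸ M.setting.stab i) := by
    intro m
    have h : M.cover ⟨i, QuotientGroup.mk (m * n)⟩ = M.cover ⟨i, QuotientGroup.mk n⟩ := by
      rw [M.cover_mk, M.cover_mk, map_mul, mul_smul, hc, MulAction.Quotient.smul_mk]
      refine QuotientGroup.eq.mpr ?_
      have := inv_mem (hk m)
      show (M.ι m • k)⁻¹ * k ∈ M.ι.range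
      simpa [smul_eq_mul, mul_assoc] using this
    simpa using (M.cover_bijective hly).1 h
  have htop : M.setting.stab i = ⊤ := by
    rw [eq_top_iff]
    intro x _
    have := QuotientGroup.eq.mp (hfix (n * x⁻¹ * n⁻¹))
    simpa [mul_assoc] using this
  have hi : (i : ℕ) = 0 := by
    have h5 : (i : ℕ) < 5 := i.2
    have h := M.stab_index_eq hly h5
    rw [htop, Subgroup.index_top] at h
    by_contra hne
    interval_cases hq : (i : ℕ) <;> simp [stabIdx] at h hne
  rw [hi, M.amalgam.q_zero, MulAction.Quotient.smul_mk, smul_eq_mul, mul_one] at hc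
  have h := QuotientGroup.eq.mp hc
  have hn : M.ι n ∈ M.ι.range := ⟨n, rfl⟩
  simpa [mul_assoc] using mul_mem hn h

theorem phi_eq_run (w : List ℕ) (p : Fin 19530) :
    (M.rep.φ (evw M.gen10 w) p : ℕ) = H77.HN.runK T10 w p := by
  rw [M.rep.evw_apply, H77.HN.runK_eq]

include M in
/-- the centre of the model is trivial -/
theorem central_eq_one {n : N} (hn : ∀ m : N, m * n = n * m) : n = 1 := by
  set z : Fin 19530 := ⟨0, by norm_num⟩
  have hcomm : ∀ (w : List ℕ) (p : Fin 19530),
      M.rep.φ (evw M.gen10 w) (M.rep.φ n p) = M.rep.φ n (M.rep.φ (evw M.gen10 w) p) := by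
    intro w p
    rw [← Equiv.Perm.mul_apply, ← map_mul, hn, map_mul, Equiv.Perm.mul_apply]
  have hzero : ∀ t < 8, M.rep.φ (evw M.gen10 (wordOf (10 + t))) z = z := by
    intro t ht
    refine Fin.ext ?_
    rw [phi_eq_run]
    have hh : ((List.range 8).all fun t => Nat.beq (H77.HN.runK T10 (wordOf (10 + t)) 0) 0) = true := by
      decide +kernel
    exact Nat.eq_of_beq_eq_true (List.all_eq_true.mp hh t (List.mem_range.mpr ht))
  have hnz : M.rep.φ n z = z := by
    have h := moved (M.rep.φ n z).2
    simp only [movedB, Bool.or_eq_true, List.any_eq_true, Bool.not_eq_true'] at h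
    rcases h with h | ⟨t, ht, h⟩
    · exact Fin.ext (Nat.eq_of_beq_eq_true h)
    · have := hcomm (wordOf (10 + t)) z
      rw [hzero t (List.mem_range.mp ht)] at this
      have h2 := congrArg Fin.val this
      rw [phi_eq_run] at h2
      exact absurd h2 (Nat.ne_of_beq_eq_false h)
  refine M.base.2 n fun p hp => ?_
  rw [← base_words.2] at hp
  obtain ⟨q, hq, hqp⟩ := List.mem_map.mp hp
  have hb := Nat.eq_of_beq_eq_true (List.all_eq_true.mp base_words.1 q hq)
  have e : M.rep.φ (evw M.gen10 q.2) z = p := Fin.ext (by rw [phi_eq_run]; exact hb.trans hqp)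
  rw [← e, ← hcomm, hnz]

include M hly in
theorem center_eq_bot : Subgroup.center Cfsg.Spor.Ly = ⊥ := by
  rw [eq_bot_iff]
  intro k hk
  have hc := Subgroup.mem_center_iff.mp hk
  obtain ⟨n, rfl⟩ := M.mem_range_of_fixed hly (k := k) fun n =>
    ⟨n, by rw [mul_assoc, hc, inv_mul_cancel_left]⟩
  have h1 : n = 1 := M.central_eq_one fun m => M.ι_injective hly (by rw [map_mul, map_mul, hc])
  rw [Subgroup.mem_bot, h1, map_one]

end NModel

end H97.Ly
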