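import Cfsg.Agent.H68.Ly.QBound
import Cfsg.Agent.H97.Ly.NInst
import Cfsg.Agent.H97.Ly.Upper

/-!
The model of N, unconditionally.
-/

set_option autoImplicit false

namespace H97.Ly

open H23.Ly (N0)

instance finiteN0 : Finite N0 := by
  haveI := H68.Ly.Rels.closure_finite H23.Ly.n0_rels
  rw [H23.Ly.n0_closure] at this
  exact Finite.of_equiv _ (Subgroup.topEquiv (G := N0)).toEquiv

theorem card_N0_le : Nat.card N0 ≤ 5859000000 := by
  have h := H68.Ly.Rels.card_le H23.Ly.n0_rels
  rw [H23.Ly.n0_closure, Subgroup.card_top] at h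
  exact h

/-- the model -/
noncomputable def M0 : NModel N0 := Inst.model card_N0_le

theorem card_N0 : Nat.card N0 = 5859000000 := M0.card

/-- the presented group is finite, of order at most that of the Lyons group -/
theorem ly_finite_le : Finite Cfsg.Spor.Ly ∧ Nat.card Cfsg.Spor.Ly ≤ 51765179004000000 ∧
    abcd.index ≤ 8835156 ∧ Nat.card abcd ≤ 5859000000 := by
  obtain ⟨hfi, hle⟩ := M0.abcd_index_le
  have hr : M0.ι.range = abcd := M0.range_eq
  haveI : Finite abcd := by
    rw [← hr]; exact Finite.of_surjective M0.ι.rangeRestrict M0.ι.rangeRestrict_surjective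
  have hc : Nat.card abcd ≤ 5859000000 := by
    rw [← hr, ← card_N0]
    exact Nat.card_le_card_of_surjective (α := N0) _ M0.ι.rangeRestrict_surjective
  haveI : Finite (Cfsg.Spor.Ly ⧸ abcd) := Subgroup.finite_quotient_of_finiteIndex
  have hfin : Finite Cfsg.Spor.Ly := Finite.of_equiv _ (Subgroup.groupEquivQuotientProdSubgroup (s := abcd)).symm
  refine ⟨hfin, ?_, hle, hc⟩
  rw [← abcd.index_mul_card]
  exact (Nat.mul_le_mul hle hc).trans (by norm_num)

instance finiteLy : Finite Cfsg.Spor.Ly := ly_finite_le.1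

theorem card_ly_le : Nat.card Cfsg.Spor.Ly ≤ 51765179004000000 := ly_finite_le.2.1

end H97.Ly
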