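import Mathlib
import Cfsg.Agent.H1.CoprimeAction
import Cfsg.Agent.H5.AbelianHall

/-!
Simplicity of a group of the order of the Lyons group from two elements of order 67: their
order exceeds what can act on a p-subgroup of such a group for any other prime p.
-/

set_option autoImplicit false

namespace H97.Ly.Simple

/-- exponents of the order -/
def expo : List (ℕ × ℕ) := [(2, 8), (3, 7), (5, 6), (7, 1), (11, 1), (31, 1), (37, 1), (67, 1)]

/-- the order -/
def order : ℕ := 2 ^ 8 * 3 ^ 7 * 5 ^ 6 * 7 * 11 * 31 * 37 * 67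

theorem expo_spec {p : ℕ} (hp : p.Prime) (h : p ∣ order) :
    ∃ k, (p, k) ∈ expo ∧ ¬ p ^ (k + 1) ∣ order := by
  unfold order at h
  have pr : ∀ {q : ℕ} (n : ℕ), q.Prime → p ∣ q ^ n → p = q := fun n hq h =>
    (Nat.prime_dvd_prime_iff_eq hp hq).mp (hp.dvd_of_dvd_pow h)
  have one : ∀ {q : ℕ}, q.Prime → p ∣ q → p = q := fun hq h =>
    (Nat.prime_dvd_prime_iff_eq hp hq).mp h
  rcases hp.dvd_mul.mp h with h | h
  rcases hp.dvd_mul.mp h with h | h
  rcases hp.dvd_mul.mp h with h | h
  rcases hp.dvd_mul.mp h with h | h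
  rcases hp.dvd_mul.mp h with h | h
  rcases hp.dvd_mul.mp h with h | h
  rcases hp.dvd_mul.mp h with h | h
  · obtain rfl := pr _ (by norm_num) h; exact ⟨8, by decide, by decide +kernel⟩
  · obtain rfl := pr _ (by norm_num) h; exact ⟨7, by decide, by decide +kernel⟩
  · obtain rfl := pr _ (by norm_num) h; exact ⟨6, by decide, by decide +kernel⟩
  · obtain rfl := one (by norm_num) h; exact ⟨1, by decide, by decide +kernel⟩
  · obtain rfl := one (by norm_num) h; exact ⟨1, by decide, by decide +kernel⟩
  · obtain rfl := one (by norm_num) h; exact ⟨1, by decide, by decide +kernel⟩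
  · obtain rfl := one (by norm_num) h; exact ⟨1, by decide, by decide +kernel⟩
  · obtain rfl := one (by norm_num) h; exact ⟨1, by decide, by decide +kernel⟩

/-- powers of the other primes in the order are pairwise incongruent modulo 67 -/
theorem pow_incongr : ∀ q ∈ expo, q.1 ≠ 67 → ∀ m < q.2 + 1, ∀ j < m,
    q.1 ^ j % 67 ≠ q.1 ^ m % 67 := by decide +kernel

variable {G : Type*} [Group G] [Finite G]

/-- an element of order dividing 67 centralises every normal subgroup of order prime to 67 -/
theorem mem_centralizer_of_normal (hcard : Nat.card G = order) (M : Subgroup G) [M.Normal]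
    (hM : ¬ 67 ∣ Nat.card M) {x : G} (hx : x ^ 67 = 1) :
    x ∈ Subgroup.centralizer (M : Set G) := by
  haveI : Fact (Nat.Prime 67) := ⟨by norm_num⟩
  let A := Subgroup.zpowers x
  have hA : Nat.card A ∣ 67 := by
    rw [Nat.card_zpowers]; exact orderOf_dvd_of_pow_eq_one hx
  have hcop : (Nat.card A).Coprime (Nat.card M) :=
    Nat.Coprime.coprime_dvd_left hA ((Nat.Prime.coprime_iff_not_dvd (by norm_num)).mpr hM)
  have hAM : A ≤ Subgroup.normalizer (M : Set G) := by
    rw [Subgroup.normalizer_eq_top M]; exact le_top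
  let C := M ⊓ Subgroup.centralizer ({x} : Set G)
  suffices hMC : M ≤ C by
    rw [Subgroup.mem_centralizer_iff]
    intro m hm
    exact ((Subgroup.mem_centralizer_iff.mp (hMC hm).2) x rfl).symm
  have key : Nat.card M ∣ Nat.card C := by
    refine (Nat.factorization_prime_le_iff_dvd Nat.card_pos.ne' Nat.card_pos.ne').mp ?_
    intro p hp
    haveI : Fact p.Prime := ⟨hp⟩
    by_cases hpM : p ∣ Nat.card M
    swap
    · rw [Nat.factorization_eq_zero_of_not_dvd hpM]; exact Nat.zero_le _
    obtain ⟨P, hP⟩ := H1.exists_invariant_sylow hAM hcop (Or.inl (by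
      refine isSolvable_of_comm fun a b => ?_
      obtain ⟨⟨_, i, rfl⟩, ⟨_, j, rfl⟩⟩ := a, b
      exact Subtype.ext (Commute.zpow_zpow_self x i j))) p
    let Q := (P : Subgroup M).map M.subtype
    have hQ : Nat.card Q = p ^ (Nat.card M).factorization p := by
      rw [Subgroup.card_map_of_injective M.subtype_injective, P.card_eq_multiplicity]
    have hp67 : p ≠ 67 := fun h => hM (h ▸ hpM)
    obtain ⟨k, hk, hk'⟩ := expo_spec hp (hcard ▸ hpM.trans M.card_subgroup_dvd_card)
    have hmk : (Nat.card M).factorization p ≤ k := by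
      by_contra hlt
      refine hk' ((pow_dvd_pow p (by omega : k + 1 ≤ (Nat.card M).factorization p)).trans ?_)
      rw [← hcard]
      exact (Nat.ordProj_dvd _ _).trans M.card_subgroup_dvd_card
    have hxQ : x ∈ Subgroup.centralizer (Q : Set G) := by
      refine H5.mem_centralizer_of_card (q := 67) Q (hP (Subgroup.mem_zpowers x))
        ⟨1, by rw [pow_one]; exact hx⟩ fun d hd => ?_
      rw [hQ, Nat.properDivisors_prime_pow hp, Finset.mem_map] at hd
      obtain ⟨j, hj, rfl⟩ := hd
      rw [hQ]
      exact pow_incongr (p, k) hk hp67 _ (by omega) j (Finset.mem_range.mp hj)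
    have hQC : Q ≤ C := by
      intro y hy
      refine ⟨Subgroup.map_subtype_le _ hy, Subgroup.mem_centralizer_iff.mpr ?_⟩
      rintro _ rfl
      exact ((Subgroup.mem_centralizer_iff.mp hxQ) y hy).symm
    refine (hp.pow_dvd_iff_le_factorization Nat.card_pos.ne').mp ?_
    rw [← hQ]
    exact Subgroup.card_dvd_of_le hQC
  have : C = M := Subgroup.eq_of_le_of_card_ge inf_le_left (Nat.le_of_dvd Nat.card_pos key)
  exact le_of_eq this.symm

/-- simplicity -/
theorem isSimple (hcard : Nat.card G = order) {a u v : G} (hu : u ^ 67 = 1) (hv : v ^ 67 = 1)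
    (hauv : a = u * v) (htop : ∀ M : Subgroup G, M.Normal → a ∈ M → M = ⊤)
    (hcenter : Subgroup.center G = ⊥) : IsSimpleGroup G := by
  haveI : Nontrivial G := by
    rw [← Finite.one_lt_card_iff_nontrivial, hcard]; decide +kernel
  refine ⟨fun M hM => ?_⟩
  haveI := hM
  haveI : Fact (Nat.Prime 67) := ⟨by norm_num⟩
  by_cases h67 : 67 ∣ Nat.card M
  · refine Or.inr (htop M hM ?_)
    have hsm : ∀ x : G, x ^ 67 = 1 → x ∈ M := by
      intro x hx
      have h1 : orderOf (QuotientGroup.mk x : G ⧸ M) ∣ 67 :=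
        orderOf_dvd_of_pow_eq_one (by rw [← QuotientGroup.mk_pow, hx]; rfl)
      have h2 : ¬ 67 ∣ M.index := by
        intro h
        have h3 : 67 * 67 ∣ order := by
          rw [← hcard, ← M.card_mul_index]
          exact Nat.mul_dvd_mul h67 h
        revert h3
        decide +kernel
      rcases (Nat.dvd_prime (by norm_num)).mp h1 with h | h
      · exact (QuotientGroup.eq_one_iff x).mp (orderOf_eq_one_iff.mp h)
      · exact absurd (h ▸ orderOf_dvd_natCard _) h2
    rw [hauv]
    exact M.mul_mem (hsm u hu) (hsm v hv)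
  · refine Or.inl ?_
    have ha : a ∈ Subgroup.centralizer (M : Set G) := hauv ▸ Subgroup.mul_mem _
      (mem_centralizer_of_normal hcard M h67 hu) (mem_centralizer_of_normal hcard M h67 hv)
    have hC := htop _ inferInstance ha
    rw [eq_bot_iff, ← hcenter]
    intro m hm
    rw [Subgroup.mem_center_iff]
    intro g
    have hg : g ∈ Subgroup.centralizer (M : Set G) := hC ▸ Subgroup.mem_top g
    exact ((Subgroup.mem_centralizer_iff.mp hg) m hm).symm

end H97.Ly.Simple
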