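import Mathlib

/-!
Divisors of the order of a group, from chains of orbits.
-/

set_option autoImplicit false

namespace H97.Ly.Orbit

variable {G α : Type*} [Group G] (φ : G →* Equiv.Perm α)

/-- the points form the orbit of the first one, and the later elements fix it -/
def Level (own later : List G) (pts : List α) : Prop :=
  pts.Nodup ∧ ∃ v, pts.head? = some v ∧ (∀ g ∈ own ++ later, ∀ x ∈ pts, φ g x ∈ pts) ∧
    (∀ g ∈ later, φ g v = v) ∧
    ∀ i (hi : i < pts.length), 0 < i → ∃ g ∈ own, ∃ j, ∃ hj : j < pts.length, j < i ∧ φ g pts[j] = pts[i]

/-- all the elements of the levels -/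
def all : List (List G × List α) → List G
  | [] => []
  | (own, _) :: rest => own ++ all rest

/-- a chain of levels -/
def Chain : List (List G × List α) → Prop
  | [] => True
  | (own, pts) :: rest => Level φ own (all rest) pts ∧ Chain rest

/-- the product of the orbit lengths -/
def size : List (List G × List α) → ℕ
  | [] => 1
  | (_, pts) :: rest => pts.length * size rest

/-- the product of the orbit lengths divides the order of the group of all elements -/
theorem size_dvd [Finite G] : ∀ L : List (List G × List α), Chain φ L →
    size L ∣ Nat.card (Subgroup.closure {x : G | x ∈ all L}) := by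
  intro L
  induction L with
  | nil => intro _; simp [size]
  | cons q rest ih =>
    obtain ⟨own, pts⟩ := q
    rintro ⟨⟨hnd, v, hv, hclosed, hfix, hreach⟩, hchain⟩
    letI : MulAction G α := MulAction.compHom α φ
    set S := Subgroup.closure {x : G | x ∈ own ++ all rest}
    set K := Subgroup.closure {x : G | x ∈ all rest}
    have hKS : K ≤ S := Subgroup.closure_mono fun x hx => List.mem_append_right _ hx
    have hmove : ∀ y ∈ S, ∀ x ∈ {x | x ∈ pts}, y • x ∈ {x | x ∈ pts} := by
      intro y hy
      induction hy using Subgroup.closure_induction with
      | mem g hg => exact fun x hx => hclosed g hg x hx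
      | one => intro x hx; rwa [one_smul]
      | mul a b _ _ ha hb => intro x hx; rw [mul_smul]; exact ha _ (hb x hx)
      | inv a _ ha =>
        intro x hx
        have himg : (fun z => a • z) '' {x | x ∈ pts} = {x | x ∈ pts} := by
          refine Set.eq_of_subset_of_ncard_le ?_ ?_ pts.finite_toSet
          · rintro _ ⟨z, hz, rfl⟩; exact ha z hz
          · rw [Set.ncard_image_of_injective _ (MulAction.injective a)]
        rw [← himg] at hx
        obtain ⟨z, hz, rfl⟩ := hx
        rwa [inv_smul_smul]
    have horbit : MulAction.orbit S v = {x | x ∈ pts} := by
      refine Set.Subset.antisymm ?_ ?_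
      · rintro _ ⟨⟨y, hy⟩, rfl⟩
        exact hmove y hy v (List.mem_of_mem_head? hv)
      · have key : ∀ i (hi : i < pts.length), pts[i] ∈ MulAction.orbit S v := by
          intro i
          induction i using Nat.strong_induction_on with
          | _ i ihi =>
            intro hi
            rcases Nat.eq_zero_or_pos i with rfl | hpos
            · obtain ⟨h0, h0'⟩ : pts ≠ [] ∧ pts[0]'hi = v := by
                cases pts with
                | nil => simp at hv
                | cons x t => simp at hv; exact ⟨by simp, hv⟩
              rw [h0']
              exact MulAction.mem_orbit_self v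
            · obtain ⟨g, hg, j, hj, hji, he⟩ := hreach i hi hpos
              obtain ⟨⟨y, hy⟩, hy'⟩ := ihi j hji hj
              refine ⟨⟨g * y, S.mul_mem (Subgroup.subset_closure (List.mem_append_left _ hg)) hy⟩, ?_⟩
              show (g * y) • v = pts[i]
              rw [mul_smul, show y • v = pts[j] from hy']
              exact he
        intro x hx
        obtain ⟨i, hi, rfl⟩ := List.getElem_of_mem hx
        exact key i hi
    have hK : ∀ y ∈ K, y • v = v := by
      intro y hy
      refine (show K ≤ MulAction.stabilizer G v from ?_) hy
      rw [Subgroup.closure_le]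
      exact fun g hg => hfix g hg
    have hdvd : Nat.card K ∣ Nat.card (MulAction.stabilizer S v) := by
      refine Subgroup.card_dvd_of_injective
        (f := ({ toFun := fun y => ⟨⟨y.1, hKS y.2⟩, ?_⟩
                 map_one' := rfl
                 map_mul' := fun _ _ => rfl } : K →* MulAction.stabilizer S v)) ?_
      · exact hK y.1 y.2
      · intro y z h
        exact Subtype.ext (congrArg (fun w : MulAction.stabilizer S v => ((w : S) : G)) h)
    have hlen : Nat.card (MulAction.orbit S v) = pts.length := by
      classical
      rw [horbit, Nat.card_coe_set_eq, ← List.coe_toFinset, Set.ncard_coe_finset,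
        List.toFinset_card_of_nodup hnd]
    haveI : Finite (MulAction.orbit S v) := by rw [horbit]; exact pts.finite_toSet.to_subtype
    show pts.length * size rest ∣ Nat.card S
    rw [← Nat.card_congr (MulAction.orbitProdStabilizerEquivGroup S v), Nat.card_prod, hlen]
    exact Nat.mul_dvd_mul_left _ ((ih hchain).trans hdvd)

/-- hence it divides the order of the whole group -/
theorem size_dvd_card [Finite G] {L : List (List G × List α)} (h : Chain φ L) :
    size L ∣ Nat.card G :=
  (size_dvd φ L h).trans (Subgroup.card_subgroup_dvd_card _)

end H97.Ly.Orbit
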