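import Cfsg.Agent.H68.Ly.RepHom
import Cfsg.Agent.H97.Ly.Orbit

/-!
Row vectors under the matrices of the representation, packed into one number each.
-/

set_option autoImplicit false
set_option maxRecDepth 100000

namespace H97.Ly.Vec

open H60.PackMat (pk pk_inj pk_mul pk_sub)
open H68.Ly (Mat toM tab rows packTab packRow runR sumK fz fz_eq tabOK redWith)

abbrev V : Type := Fin 111 → ZMod 5

/-- the entries of a vector -/
def ent (v : V) (k : ℕ) : ℕ := if h : k < 111 then (v ⟨k, h⟩).val else 0

theorem ent_lt (v : V) (k : ℕ) : ent v k < 5 := by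
  unfold ent; split
  · exact ZMod.val_lt _
  · norm_num

/-- a packed vector -/
def vecPk (v : V) : ℕ := pk 111 (ent v)

theorem vecPk_inj {v w : V} (h : vecPk v = vecPk w) : v = w := by
  funext i
  have := pk_inj 111 (fun k _ => (ent_lt v k).trans (by norm_num))
    (fun k _ => (ent_lt w k).trans (by norm_num)) h i i.2
  rw [ent, dif_pos i.2, ent, dif_pos i.2] at this
  exact ZMod.val_injective 5 this

/-- unpack -/
def vecOf (P : ℕ) : V := fun i => ((P >>> (32 * i.val) &&& 65535 : ℕ) : ZMod 5)

/-- the number is a packed vector -/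
noncomputable def okVec (P : ℕ) : Bool :=
  Nat.beq (pk 111 fun k => Nat.mod (Nat.land (Nat.shiftRight P (32 * k)) 65535) 5) P

theorem vecPk_vecOf {P : ℕ} (h : okVec P = true) : vecPk (vecOf P) = P := by
  conv_rhs => rw [← Nat.eq_of_beq_eq_true h]
  refine H60.PackMat.pk_congr _ fun k hk => ?_
  rw [ent, dif_pos hk, vecOf, ZMod.val_natCast]
  rfl

theorem dig_eq (v : V) {j : ℕ} (hj : j < 111) : (vecPk v >>> (32 * j)) &&& 65535 = ent v j := by
  rw [Nat.shiftRight_eq_div_pow]
  exact H68.Ly.pk_digit hj fun k => (ent_lt v k).trans (by norm_num)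

theorem step_vec {S : List (List ℕ)} (hS : tabOK S = true) (v : V) :
    redWith (H60.PackMat.rep 111 65535)
      (∑ j ∈ Finset.range (packTab S).length, ((vecPk v >>> (0 + 32 * j)) &&& 65535) * (packTab S).getD j 0) =
      vecPk (Matrix.vecMul v (toM S)) := by
  simp only [tabOK, Bool.and_eq_true, beq_iff_eq, List.all_eq_true, decide_eq_true_eq] at hS
  obtain ⟨hlen, hrow⟩ := hS
  let s : ℕ → ℕ → ℕ := fun j k => (S.getD j []).getD k 0
  have hb : ∀ j k, s j k < 5 := by
    intro j k
    show (S.getD j []).getD k 0 < 5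
    by_cases hj : j < S.length
    · rw [List.getD_eq_getElem _ _ hj]
      by_cases hk : k < S[j].length
      · rw [List.getD_eq_getElem _ _ hk]; exact (hrow _ (List.getElem_mem hj)).2 _ (List.getElem_mem hk)
      · rw [List.getD_eq_default _ _ (Nat.le_of_not_lt hk)]; norm_num
    · rw [List.getD_eq_default _ _ (Nat.le_of_not_lt hj)]; norm_num
  have hterm : ∀ j < 111, ((vecPk v >>> (0 + 32 * j)) &&& 65535) * (packTab S).getD j 0 =
      pk 111 fun k => ent v j * s j k := by
    intro j hj
    have hj' : j < S.length := by omega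
    rw [zero_add, dig_eq v hj, pk_mul, List.getD_eq_getElem _ _ (by simpa [packTab] using hj'),
      show (packTab S)[j]'(by simpa [packTab] using hj') = packRow S[j] by simp [packTab],
      H68.Ly.packRow_eq, (hrow _ (List.getElem_mem hj')).1]
    refine congrArg _ (H60.PackMat.pk_congr _ fun k _ => ?_)
    show _ = (S.getD j []).getD k 0
    rw [List.getD_eq_getElem S [] hj']
  rw [show (packTab S).length = 111 by simp [packTab, hlen],
    Finset.sum_congr rfl fun j hj => hterm j (Finset.mem_range.1 hj), ← H68.Ly.pk_sum, H68.Ly.red_gen]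
  · refine H60.PackMat.pk_congr _ fun k hk => ?_
    show _ = ent _ k
    rw [ent, dif_pos hk, ← ZMod.val_natCast]
    refine congrArg ZMod.val ?_
    rw [Nat.cast_sum, Matrix.vecMul, dotProduct, Finset.sum_range]
    refine Finset.sum_congr rfl fun l _ => ?_
    rw [ent, dif_pos l.2, Nat.cast_mul, ZMod.natCast_zmod_val, toM, Matrix.of_apply]
  · intro k _
    calc ∑ j ∈ Finset.range 111, ent v j * s j k
        ≤ ∑ _j ∈ Finset.range 111, 4 * 4 := Finset.sum_le_sum fun j _ =>
          Nat.mul_le_mul (by have := ent_lt v j; omega) (by have := hb j k; omega)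
      _ = 1776 := by simp

theorem runR_vec : ∀ (w : List (List (List ℕ))), (∀ S ∈ w, tabOK S = true) → ∀ (v : V)
    (k : ℕ → Bool), runR 65535 (H60.PackMat.rep 111 65535) (w.map packTab) (vecPk v) k =
      k (vecPk (Matrix.vecMul v (w.map toM).prod)) := by
  intro w
  induction w with
  | nil => intro _ v k; simp [runR]
  | cons S w ih =>
    intro h v k
    show sumK 65535 (vecPk v) (packTab S) 0 0 (fun Z => fz (redWith (H60.PackMat.rep 111 65535) Z)
      fun Z' => runR 65535 (H60.PackMat.rep 111 65535) (w.map packTab) Z' k) = _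
    rw [H68.Ly.sumK_eq, zero_add, fz_eq, step_vec (h S List.mem_cons_self),
      ih (fun x hx => h x (List.mem_cons_of_mem _ hx)), List.map_cons, List.prod_cons,
      Matrix.vecMul_vecMul]

/-- a check on the image of a packed vector under a word -/
noncomputable def imgB (w : List ℕ) (P : ℕ) (k : ℕ → Bool) : Bool :=
  fz (H60.PackMat.rep 111 65535) fun m => runR 65535 m (w.map rows) P k

/-- the value of a word -/
noncomputable def wordMat (w : List ℕ) : GL (Fin 111) (ZMod 5) := H68.Ly.W w

theorem imgB_spec {w : List ℕ} (hw : ∀ x ∈ w, x < 10) {P : ℕ} (hP : okVec P = true) {k : ℕ → Bool}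
    (h : imgB w P k = true) :
    k (vecPk (Matrix.vecMul (vecOf P) (wordMat w : Mat))) = true := by
  have h1 : (w.map rows) = (w.map tab).map packTab := by
    rw [List.map_map]; exact List.map_congr_left fun x _ => H68.Ly.rows_eq x
  rw [imgB, fz_eq, h1, ← vecPk_vecOf hP, runR_vec _ (fun S hS => by
    obtain ⟨x, hx, rfl⟩ := List.mem_map.1 hS
    exact H68.Ly.tab_ok x (hw x hx)), List.map_map] at h
  have h2 : (wordMat w : Mat) = (w.map (toM ∘ tab)).prod := by
    clear h h1
    induction w with
    | nil => simp [wordMat, H68.Ly.W]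
    | cons x w ih =>
      simp only [List.mem_cons, forall_eq_or_imp] at hw
      have hi := ih hw.2
      simp only [wordMat, H68.Ly.W] at hi ⊢
      rw [List.map_cons, List.prod_cons, Units.val_mul, hi, H68.Ly.coe_U hw.1, List.map_cons,
        List.prod_cons]
      rfl
  rw [h2]
  exact h

end H97.Ly.Vec
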